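import Groth.Agent.ConsPropLib.Loci
import Groth.Agent.MorLib.BaseChangeLim
import Groth.Agent.LimMod.Descend

/-!
# Loci of constructible properties of modules of finite presentation
-/

set_option autoImplicit false
set_option linter.style.haveILetI false
set_option backward.isDefEq.respectTransparency false
set_option backward.isDefEq.respectTransparency.types false

open CategoryTheory CategoryTheory.Limits AlgebraicGeometry Topology Groth.Agent.SpecLib Groth.Agent.EGA41Lib

namespace Groth.Agent.ConsPropLib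

open Groth.Agent

universe u

/-- The fibres of a module of finite presentation are coherent. -/
theorem isCoh_fibre {X S : Scheme.{u}} (u : X ⟶ S) [LocallyOfFiniteType u] {F : X.Modules}
    (hF : CohB1.IsFP F) (s : S) : Coh.IsCoh ((Scheme.Modules.pullback (u.fiberι s)).obj F) := by
  haveI : IsLocallyNoetherian (u.fiber s) :=
    LocallyOfFiniteType.isLocallyNoetherian (u.fiberToSpecResidueField s)
  exact QCoh.isCoh_iff_isFP.2 (ModStLib.isFP_pullback _ hF)

/-- A scheme with a module of finite presentation over an affine scheme comes from a noetherian scheme. -/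
theorem exists_model_mod {S X : Scheme.{u}} [IsAffine S] (u : X ⟶ S)
    [LocallyOfFinitePresentation u] [QuasiCompact u] [QuasiSeparated u] (F : X.Modules) (hF : CohB1.IsFP F) :
    ∃ (S₀ X₀ : Scheme.{u}) (π : S ⟶ S₀) (u₀ : X₀ ⟶ S₀) (q : X ⟶ X₀) (F₀ : X₀.Modules),
      IsNoetherian S₀ ∧ IsAffine S₀ ∧ LocallyOfFiniteType u₀ ∧ QuasiCompact u₀ ∧ IsPullback q u u₀ π ∧
      CohB1.IsFP F₀ ∧ Nonempty (F ≅ (Scheme.Modules.pullback q).obj F₀) := by
  obtain ⟨I, _, _, D, c, hc, e, hA, hN⟩ := exists_noetherian_limit S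
  haveI := hA
  haveI : ∀ {i j : I} (f : i ⟶ j), IsAffineHom (D.map f) := fun f => isAffineHom_of_isAffine _
  obtain ⟨i, X₁, u₁, g₁, hX⟩ := hasModel hc (u ≫ e.inv)
  haveI := hX.lfp; haveI := hX.qc; haveI := hX.qs
  haveI := hX.compactSpace; haveI := hX.quasiSeparatedSpace
  haveI : ∀ (j k : Over i) (f : j ⟶ k), IsAffineHom ((MorLib.BC.diag D u₁).map f) := fun j k f => inferInstance
  let o : Over i := Over.mk (𝟙 i)
  haveI : CompactSpace ((MorLib.BC.diag D u₁).obj o) := MorLib.BC.compactSpace_obj D u₁ o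
  haveI : QuasiSeparatedSpace ((MorLib.BC.diag D u₁).obj o) := MorLib.BC.quasiSeparatedSpace_obj D u₁ o
  obtain ⟨j, -, Fj, hFj, ⟨θ⟩⟩ := LimMod.exists_module_descend (MorLib.BC.diag D u₁)
    (MorLib.BC.cone D u₁ hX.sq) (MorLib.BC.isLimitCone D u₁ hX.sq hc) (i := o) (F := F) hF
  exact ⟨D.obj j.left, pullback u₁ (D.map j.hom), e.inv ≫ c.π.app j.left, pullback.snd u₁ (D.map j.hom),
    MorLib.BC.proj D u₁ hX.sq j, Fj, hN _, hA _, inferInstance, inferInstance,
    (MorLib.BC.isPullback_proj D u₁ hX.sq j).of_iso (Iso.refl _) (Iso.refl _) e (Iso.refl _) (by simp)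
      (by simp) (by simp) (by simp),
    hFj, ⟨θ.symm⟩⟩

section

variable {S X : Scheme.{u}}

theorem isConstructible_locusMod [IsNoetherian S] {P : ∀ ⦃Y T : Scheme.{u}⦄, (Y ⟶ T) → Y.Modules → Prop}
    (hP : ConsProp.IsConsMod P) (u : X ⟶ S) [LocallyOfFiniteType u] [QuasiCompact u] (F : X.Modules)
    (hF : CohB1.IsFP F) : IsConstructible (ConsProp.locusMod P u F) :=
  isConstructible_of_dichotomy _ fun T j _ _ _ => by
    haveI : IsLocallyNoetherian (pullback u j) := LocallyOfFiniteType.isLocallyNoetherian (pullback.snd u j)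
    rw [← locusMod_preimage hP.1 (IsPullback.of_hasPullback u j) (isCoh_fibre u hF) (Iso.refl _)]
    exact hP.2 (pullback.snd u j) _ (QCoh.isCoh_iff_isFP.2 (ModStLib.isFP_pullback _ hF))

theorem isIndConstructible_locusMod_noetherian [IsNoetherian S]
    {P : ∀ ⦃Y T : Scheme.{u}⦄, (Y ⟶ T) → Y.Modules → Prop}
    (hP : ConsProp.IsIndConsMod P) (u : X ⟶ S) [LocallyOfFiniteType u] [QuasiCompact u] (F : X.Modules)
    (hF : CohB1.IsFP F) : ProCons.IsIndConstructible (ConsProp.locusMod P u F) :=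
  isIndConstructible_of_generic _ fun T j _ _ _ hg => by
    haveI : IsLocallyNoetherian (pullback u j) := LocallyOfFiniteType.isLocallyNoetherian (pullback.snd u j)
    have hl := locusMod_preimage hP.1 (IsPullback.of_hasPullback u j) (isCoh_fibre u hF) (Iso.refl _)
    rw [← hl]
    exact hP.2 (pullback.snd u j) _ (QCoh.isCoh_iff_isFP.2 (ModStLib.isFP_pullback _ hF)) (hl.ge hg)

/-- A scheme with a module, restricted to an affine open of the base. -/
theorem exists_affine_restrict_mod {P : ∀ ⦃Y T : Scheme.{u}⦄, (Y ⟶ T) → Y.Modules → Prop}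
    (hP : ConsProp.IsFieldStableMod P) (u : X ⟶ S)
    [LocallyOfFinitePresentation u] [QuasiCompact u] [QuasiSeparated u] (F : X.Modules) (hF : CohB1.IsFP F)
    {V : S.Opens} (hV : IsAffineOpen V) :
    ∃ (S₀ X₀ : Scheme.{u}) (π : (V : Scheme.{u}) ⟶ S₀) (u₀ : X₀ ⟶ S₀) (F₀ : X₀.Modules),
      IsNoetherian S₀ ∧ IsAffineHom π ∧ LocallyOfFiniteType u₀ ∧ QuasiCompact u₀ ∧ CohB1.IsFP F₀ ∧
      (V.ι ⁻¹' ConsProp.locusMod P u F : Set (V : Scheme.{u})) = π ⁻¹' ConsProp.locusMod P u₀ F₀ := by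
  haveI : IsAffine (V : Scheme.{u}) := hV
  obtain ⟨S₀, X₀, π, u₀, q, F₀, h1, h2, h3, h4, sq, h5, ⟨θ⟩⟩ :=
    exists_model_mod (pullback.snd u V.ι) _ (ModStLib.isFP_pullback (pullback.fst u V.ι) hF)
  haveI := h3; haveI := h4
  refine ⟨S₀, X₀, π, u₀, F₀, h1, isAffineHom_of_isAffine _, h3, h4, h5, ?_⟩
  rw [← locusMod_preimage hP (IsPullback.of_hasPullback u V.ι) (isCoh_fibre u hF) (Iso.refl _),
    ← locusMod_preimage hP sq (isCoh_fibre u₀ h5) θ]

theorem isLocallyConstructible_locusMod {P : ∀ ⦃Y T : Scheme.{u}⦄, (Y ⟶ T) → Y.Modules → Prop}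
    (hP : ConsProp.IsConsMod P) (u : X ⟶ S) [LocallyOfFinitePresentation u] [QuasiCompact u] [QuasiSeparated u]
    (F : X.Modules) (hF : CohB1.IsFP F) : IsLocallyConstructible (ConsProp.locusMod P u F) :=
  lc_of_affine fun V hV => by
    haveI : IsAffine (V : Scheme.{u}) := hV
    obtain ⟨S₀, X₀, π, u₀, F₀, _, _, _, _, h5, e⟩ := exists_affine_restrict_mod hP.1 u F hF hV
    rw [e]
    exact MorLib.LimCons.isConstructible_preimage π (isConstructible_locusMod hP u₀ F₀ h5)

theorem isIndConstructible_locusMod {P : ∀ ⦃Y T : Scheme.{u}⦄, (Y ⟶ T) → Y.Modules → Prop}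
    (hP : ConsProp.IsIndConsMod P) (u : X ⟶ S) [LocallyOfFinitePresentation u] [QuasiCompact u] [QuasiSeparated u]
    (F : X.Modules) (hF : CohB1.IsFP F) : ProCons.IsIndConstructible (ConsProp.locusMod P u F) :=
  ind_of_affine fun V hV => by
    haveI : IsAffine (V : Scheme.{u}) := hV
    obtain ⟨S₀, X₀, π, u₀, F₀, _, _, _, _, h5, e⟩ := exists_affine_restrict_mod hP.1 u F hF hV
    rw [e]
    exact MorLib.LimPro.isIndConstructible_preimage (isIndConstructible_locusMod_noetherian hP u₀ F₀ h5) π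

end

end Groth.Agent.ConsPropLib
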