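import Groth.Agent.ConsPropLib.LociMod

/-!
# Affine models of finite type over the integers, with a module
-/

set_option autoImplicit false
set_option linter.style.haveILetI false
set_option backward.isDefEq.respectTransparency false
set_option backward.isDefEq.respectTransparency.types false

open CategoryTheory CategoryTheory.Limits AlgebraicGeometry Topology

namespace Groth.Agent.ConsPropLib

open Groth.Agent

universe u

/-- Affine schemes of finite presentation over affine schemes, with a module, have models over finitely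
generated rings. -/
theorem exists_affine_model_mod {X S : Scheme.{u}} (f : X ⟶ S) [IsAffine X] [IsAffine S]
    [LocallyOfFinitePresentation f] (F : X.Modules) (hF : CohB1.IsFP F) :
    ∃ (X₀ S₀ : Scheme.{u}) (f₀ : X₀ ⟶ S₀) (g : S ⟶ S₀) (g' : X ⟶ X₀), IsAffine X₀ ∧ IsAffine S₀ ∧
      IsPullback g' f f₀ g ∧ Algebra.FiniteType ℤ Γ(S₀, ⊤) ∧ LocallyOfFiniteType f₀ ∧
      ∃ F₀ : X₀.Modules, Coh.IsCoh F₀ ∧ Nonempty ((Scheme.Modules.pullback g').obj F₀ ≅ F) := by
  let A := Γ(S, ⊤)
  let D := NoethApprox.diagram A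
  let c := NoethApprox.cone A
  let hc : IsLimit c := NoethApprox.isLimit A
  let e : c.pt ≅ S := S.isoSpec.symm
  haveI : ∀ i, IsAffine (D.obj i) := NoethApprox.isAffine_obj A
  haveI : ∀ {i j : (Finset A)ᵒᵖ} (g : i ⟶ j), IsAffineHom (D.map g) := fun g => isAffineHom_of_isAffine _
  haveI : QuasiCompact f := inferInstance
  obtain ⟨i, X₁, u₁, g₁, hX⟩ := hasModel hc (f ≫ e.inv)
  haveI := hX.lfp; haveI := hX.qc; haveI := hX.qs
  haveI := hX.compactSpace; haveI := hX.quasiSeparatedSpace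
  haveI : ∀ (j k : Over i) (g : j ⟶ k), IsAffineHom ((MorLib.BC.diag D u₁).map g) := fun j k g => inferInstance
  haveI : ∀ o, CompactSpace ((MorLib.BC.diag D u₁).obj o) := fun o => MorLib.BC.compactSpace_obj D u₁ o
  haveI : ∀ o, QuasiSeparatedSpace ((MorLib.BC.diag D u₁).obj o) := fun o =>
    MorLib.BC.quasiSeparatedSpace_obj D u₁ o
  haveI : IsAffine (MorLib.BC.cone D u₁ hX.sq).pt := ‹IsAffine X›
  obtain ⟨o, ho⟩ := Scheme.exists_isAffine_of_isLimit _ _ (MorLib.BC.isLimitCone D u₁ hX.sq hc)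
  haveI := ho
  obtain ⟨j, ψ, Fj, hFj, ⟨θ⟩⟩ := LimMod.exists_module_descend (MorLib.BC.diag D u₁)
    (MorLib.BC.cone D u₁ hX.sq) (MorLib.BC.isLimitCone D u₁ hX.sq hc) (i := o) (F := F) hF
  haveI hjA : IsAffine ((MorLib.BC.diag D u₁).obj j) := isAffine_of_isAffineHom ((MorLib.BC.diag D u₁).map ψ)
  haveI : IsNoetherian (D.obj j.left) := NoethApprox.isNoetherian_obj A j.left
  haveI : IsLocallyNoetherian (pullback u₁ (D.map j.hom)) :=
    LocallyOfFiniteType.isLocallyNoetherian (pullback.snd u₁ (D.map j.hom))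
  refine ⟨pullback u₁ (D.map j.hom), D.obj j.left, pullback.snd u₁ (D.map j.hom), e.inv ≫ c.π.app j.left,
    MorLib.BC.proj D u₁ hX.sq j, hjA, inferInstance,
    (MorLib.BC.isPullback_proj D u₁ hX.sq j).of_iso (Iso.refl _) (Iso.refl _) e (Iso.refl _) (by simp)
      (by simp) (by simp) (by simp), ?_, inferInstance, Fj, QCoh.isCoh_iff_isFP.2 hFj, ⟨θ⟩⟩
  haveI : Algebra.FiniteType ℤ (Algebra.adjoin ℤ ((j.left.unop : Finset A) : Set A)) :=
    Algebra.FiniteType.adjoin_of_finite (Finset.finite_toSet _)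
  exact Algebra.FiniteType.equiv ‹_›
    ((Scheme.ΓSpecIso (CommRingCat.of (Algebra.adjoin ℤ ((j.left.unop : Finset A) : Set A)))).symm.commRingCatIsoToRingEquiv.toIntAlgEquiv)

end Groth.Agent.ConsPropLib
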